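import Cfsg.Agent.Lib.H23.KYV
import Cfsg.Agent.Lib.H23.KYLR
import Cfsg.Agent.Lib.H23.KYREP
import Cfsg.Agent.Lib.H15.KYCY4
import Cfsg.Agent.Lib.H23.ContribP

/-!
# S4540: the integer `A_χ = φ⁻¹ ∑_k 2^d m^{(y^k,b)}_{χχ}` and its divisibility (helper28, fallback twin of AINT)
-/

set_option autoImplicit false

namespace Cfsg.Agent.Lib.H28.KY

open Cfsg Cfsg.Agent.Lib.H23 Cfsg.Agent.Lib.H24 Cfsg.Agent.Lib.L0 Cfsg.Agent.Lib.H23.Contrib
open scoped ComplexConjugate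

theorem exists_int_avg_contrib_self {G : Type*} [Group G] [Fintype G] {M : Ideal AlgInt}
    [Fintype (IrrCharacter G)] (hM : IsPModular 2 M)
    (H : Subgroup G) [Fintype H] [Fintype (IrrCharacter H)] (ξ₁ : IrrCharacter H)
    [DecidablePred (· ∈ blockOf M (ξ₁ : H → ℂ))] {B : Set (IrrCharacter G)}
    (hind : IsInducedBlock M H (blockOf M (ξ₁ : H → ℂ)) B)
    (hdef : blockDefect 2 (blockOf M (ξ₁ : H → ℂ)) = blockDefect 2 B) (y : H)
    (hyc : y ∈ Subgroup.center H) (hy : ∃ k : ℕ, orderOf y = 2 ^ k)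
    (hC : ∀ g : G, g * (y : G) * g⁻¹ = (y : G) → g ∈ H) {χ : IrrCharacter G}
    (hχ : χ ∈ B) (m : ℕ) [NeZero m] (hm : m = Nat.card G) :
    ∃ A : ℤ, (∑ k : (ZMod m)ˣ, ((2 : ℕ) : ℂ) ^ blockDefect 2 B *
        contrib 2 H (blockOf M (ξ₁ : H → ℂ)) (y ^ (k : ZMod m).val) (χ : G → ℂ) (χ : G → ℂ)) =
        (Fintype.card (ZMod m)ˣ : ℂ) * (A : ℂ) ∧
      (2 : ℤ) ^ blockHeight 2 B (χ : G → ℂ) ∣ A ∧
      (1 ≤ blockHeight 2 B (χ : G → ℂ) → (2 : ℤ) ^ (blockHeight 2 B (χ : G → ℂ) + 1) ∣ A) := by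
  classical
  have hPr := isPrime_of_isPModular hM
  let _ : IsLocalRing (localRing M) := Cfsg.Agent.Lib.H23.KY.isLocalRing_localRing
  obtain ⟨j, hj⟩ := hy
  have hord_dvd : orderOf y ∣ m := by
    rw [hm]
    exact (orderOf_dvd_natCard y).trans (Subgroup.card_subgroup_dvd_card H)
  -- the representation
  obtain ⟨c, hc⟩ := Cfsg.Agent.Lib.H23.KY.exists_int_rep (p := 2) H hM ξ₁ hyc χ χ
  set w : IrrCharacter H × IrrCharacter H → ℂ := fun t => lamW H y t.1 t.2 with hw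
  have hwj : ∀ t, w t ^ (2 ^ j) = 1 := fun t =>
    Cfsg.Agent.Lib.H23.KY.lamW_pow_eq_one H hyc t.1 t.2 (by rw [hj])
  have hwm : ∀ t, w t ^ m = 1 := fun t =>
    Cfsg.Agent.Lib.H23.KY.lamW_pow_eq_one H hyc t.1 t.2 hord_dvd
  -- the value at `n = 1`
  have hc1 : ((2 : ℕ) : ℂ) ^ blockDefect 2 B *
      contrib 2 H (blockOf M (ξ₁ : H → ℂ)) y (χ : G → ℂ) (χ : G → ℂ) = ∑ t, (c t : ℂ) * w t := by
    have := hc 1
    rw [pow_one, hdef] at this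
    rw [this]
    refine Finset.sum_congr rfl fun t _ => ?_
    rw [pow_one]
  -- reality
  have hreal : conj (∑ t, (c t : ℂ) * w t) = ∑ t, (c t : ℂ) * w t := by
    rw [← hc1, contrib_self_eq_sum H hM hyc ⟨j, hj⟩ hC ξ₁ χ]
    rw [map_mul, map_pow, Complex.conj_natCast, Complex.conj_ofReal]
  -- the valuation
  obtain ⟨r, hrR, hrI, hr⟩ := Cfsg.Agent.Lib.H23.KY.pow_mul_contrib_eq_pow_height_mul H hM ξ₁ hind hdef
    hyc ⟨j, hj⟩ hχ hχ
  have h2 : (2 : localRing M) ∈ IsLocalRing.maximalIdeal (localRing M) := by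
    rw [Cfsg.Agent.Lib.H23.KY.mem_maximalIdeal_localRing_iff]
    have e : ((2 : localRing M) : ℂ) = ((2 : ℕ) : ℂ) := by
      rw [Nat.cast_ofNat]
      rfl
    rw [e]
    exact memLocalIdeal_p hM
  have hint : ∀ x : ℂ, IsIntegral ℤ x → x ∈ localRing M := fun x hx =>
    isIntegral_mem_localRing hx
  have hx : ∑ t, (c t : ℂ) * w t = 2 ^ blockHeight 2 B (χ : G → ℂ) * ((⟨r, hrR⟩ : localRing M) : ℂ) := by
    rw [← hc1, hr]
    simp
  obtain ⟨A, hA1, hA2, hA3⟩ := Cfsg.Agent.Lib.H15.KY.exists_int_sum_units_of_mem (localRing M) h2 hint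
    c w j hwj m hwm hreal (blockHeight 2 B (χ : G → ℂ)) ⟨r, hrR⟩ hx
  refine ⟨A, ?_, hA2, ?_⟩
  · rw [← hA1]
    refine Finset.sum_congr rfl fun k _ => ?_
    have := hc (k : ZMod m).val
    rw [hdef] at this
    exact this
  · intro h1
    apply hA3
    rw [Cfsg.Agent.Lib.H23.KY.mem_maximalIdeal_localRing_iff]
    exact hrI h1

end Cfsg.Agent.Lib.H28.KY
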